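/-
Checks on the normalizer of order 3265173504: orbits on the transpositions, closures, and derived levels.
-/
import Cfsg.Agent.Lib.Spor.Fi23Three.CentralChecks
import Cfsg.Agent.Lib.Spor.Fi23Derived.Data
import Cfsg.Agent.Lib.Spor.Fi23Derived.Tables

set_option autoImplicit false
set_option maxRecDepth 100000

namespace CfsgLib.Spor.Fi23Derived

open CfsgLib.Spor.TC CfsgLib.Spor.Fi23 CfsgLib.Spor.Fi23Out

noncomputable section

local notation "AF" => CfsgLib.Spor.Fi23.ActF.act

/-- Two words agree on the points of the generators, the intermediate numbers evaluated before use. -/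
def eqS (a b : List ℕ) : Bool :=
  Fi23Three.below a && Fi23Three.below b &&
    Fi23Three.genPts.all fun p => Nat.beq (Act.wactS AF a p) (Act.wactS AF b p)

/-- A word fixes a point. -/
def fixS (w : List ℕ) (c : ℕ) : Bool := Nat.beq (Act.wactS AF w c) c

/-- The word of a transposition from a word reaching its point. -/
def tword (w : List ℕ) : List ℕ := w ++ [10] ++ w.reverse

/-- A named axis. -/
def axis (i : ℕ) : ℕ × List ℕ := axes.getD i (0, [])

/-- The axes are reached by their words, and these only use generators. -/
def axesOK : Bool :=
  axes.all fun e => (e.2.all fun x => Nat.blt x 10) && Nat.blt e.1 31671 &&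
    Nat.beq (Act.wactS AF e.2 0) e.1

/-- A generator of the centralizer commutes with the central element. -/
def cgensOK : Bool :=
  cgens.all fun w => eqS (w ++ Fi23Three.Central.rW) (Fi23Three.Central.rW ++ w)

/-- The word of a route in the centralizer. -/
def routeW (r : List ℕ) : List ℕ := r.flatMap fun i => cgens.getD i []

/-- A point is fixed by the central element, or is one of two roots, or has a parent of smaller depth. -/
def coverAt (c : ℕ) : Bool :=
  fixS Fi23Three.Central.rW c || Nat.beq c 3 || Nat.beq c 11 ||
    Nat.blt (depT.get 16 c) 9 && Nat.blt (parT.get 16 c) 31671 &&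
      Nat.blt (depT.get 16 (parT.get 16 c)) (depT.get 16 c) &&
      !fixS Fi23Three.Central.rW (parT.get 16 c) &&
      Nat.blt (genT.get 16 c) cgens.length &&
      Nat.beq (Act.wactS AF (cgens.getD (genT.get 16 c) []) (parT.get 16 c)) c

/-- Steps that stay inside what is known, recording the new points. -/
def walkOK : List (ℕ × ℕ × ℕ) → List ℕ → Bool
  | [], known => Fi23Three.genPts.all fun p => known.any fun q => Nat.beq q p
  | (i, b, v) :: t, known =>
      Nat.blt i axes.length && (known.any fun q => Nat.beq q (axis i).1) && (known.any fun q => Nat.beq q b) &&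
        Nat.beq (Act.wactS AF (tword (axis i).2) b) v && walkOK t (v :: known)

/-- A seed is fixed by the central element or reached from the root by a route. -/
def seedsOK (r : ℕ) (seeds : List (ℕ × List ℕ)) : Bool :=
  seeds.all fun e => Nat.blt e.1 31671 && (e.2.all fun i => Nat.blt i cgens.length) &&
    (fixS Fi23Three.Central.rW e.1 || Nat.beq (Act.wactS AF (routeW e.2) r) e.1)

/-- A transposition word does not normalize the central subgroup. -/
def movesOK (i : ℕ) : Bool :=
  let s := tword (axis i).2
  let u := s ++ Fi23Three.Central.rW ++ s
  (Fi23Three.genPts.any fun p => !Nat.beq (Act.wactS AF u p) (Act.wactS AF Fi23Three.Central.rW p)) &&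
    (Fi23Three.genPts.any fun p =>
      !Nat.beq (Act.wactS AF u p) (Act.wactS AF (Fi23Three.Central.rW ++ Fi23Three.Central.rW) p))

/-- A point fixed by four transpositions is one of three. -/
def tellAt (c : ℕ) : Bool :=
  !(tellers.all fun i => fixS (tword (axis i).2) c) || Nat.beq c 3 || Nat.beq c 85 || Nat.beq c 458

/-- The product of some members of a level. -/
def prodW (l : List (List ℕ)) (idx : List ℕ) : List ℕ := idx.flatMap fun i => l.getD i []

/-- Each member of a level is the commutator of two products of members of the previous one. -/
def commAt (prev cur : List (List ℕ)) (src : List (List ℕ × List ℕ)) (a len : ℕ) : Bool :=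
  Nat.beq src.length cur.length &&
    (List.range len).all fun k =>
      let e := src.getD (a + k) ([], [])
      (e.1.all fun i => Nat.blt i prev.length) && (e.2.all fun i => Nat.blt i prev.length) &&
        eqS (cur.getD (a + k) [] ++ prodW prev e.2 ++ prodW prev e.1) (prodW prev e.1 ++ prodW prev e.2)

/-- The first level normalizes. -/
def lev0OK : Bool :=
  lev0.all fun w => eqS (w ++ Fi23Three.Central.rW) (Fi23Three.Central.rW ++ w) ||
    eqS (w ++ Fi23Three.Central.rW) (Fi23Three.Central.rW ++ Fi23Three.Central.rW ++ w)

theorem cgens_ok : cgensOK = true := by decide +kernel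

theorem axes_ok : axesOK = true := by decide +kernel

theorem seeds0_ok : seedsOK 3 seeds0 = true := by decide +kernel

theorem seeds1_ok : seedsOK 11 seeds1 = true := by decide +kernel

theorem walk0_ok : walkOK steps0 (seeds0.map Prod.fst) = true := by decide +kernel

theorem walk1_ok : walkOK steps1 (seeds1.map Prod.fst) = true := by decide +kernel

theorem walkFix_ok : walkOK fixSteps fixSeeds = true := by decide +kernel

theorem fixSeeds_ok : (fixSeeds.all fun v => Nat.blt v 31671 &&
    (Nat.beq v 3 || fixS Fi23Three.Central.rW v)) = true := by decide +kernel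

theorem tellers_ok : (tellers.all fun i => fixS Fi23Three.Central.rW (axis i).1 &&
    fixS (tword (axis i).2) 3) = true := by decide +kernel

theorem r_moves : (Nat.beq (Act.wactS AF Fi23Three.Central.rW 3) 458 &&
    Nat.beq (Act.wactS AF Fi23Three.Central.rW 458) 85) = true := by decide +kernel

theorem axis_three : 0 < axes.length ∧ (axis 0).1 = 3 := by decide +kernel

theorem axis_eleven : 1 < axes.length ∧ (axis 1).1 = 11 := by decide +kernel

theorem moves_three : movesOK 0 = true := by decide +kernel

theorem moves_eleven : movesOK 1 = true := by decide +kernel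

theorem lev0_ok : lev0OK = true := by decide +kernel

theorem lev9_ne : (Fi23Three.below (lev9.getD 0 []) && Fi23Three.neW (lev9.getD 0 [])) = true := by decide +kernel

theorem lev1_ok : commAt lev0 lev1 from1 0 lev1.length = true := by decide +kernel

end

end CfsgLib.Spor.Fi23Derived
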