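/-
The derived levels above the first.
-/
import Cfsg.Agent.Lib.Spor.Fi23Derived.Checks

set_option autoImplicit false
set_option maxRecDepth 100000

namespace CfsgLib.Spor.Fi23Derived

noncomputable section

theorem lev2_ok : commAt lev1 lev2 from2 0 lev2.length = true := by decide +kernel

theorem lev3_ok : commAt lev2 lev3 from3 0 lev3.length = true := by decide +kernel

theorem lev4_ok : commAt lev3 lev4 from4 0 lev4.length = true := by decide +kernel

theorem lev5_ok : commAt lev4 lev5 from5 0 lev5.length = true := by decide +kernel

theorem lev6_ok : commAt lev5 lev6 from6 0 lev6.length = true := by decide +kernel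

theorem lev7_ok : commAt lev6 lev7 from7 0 lev7.length = true := by decide +kernel

theorem lev8_ok : commAt lev7 lev8 from8 0 lev8.length = true := by decide +kernel

theorem lev9_ok : commAt lev8 lev9 from9 0 lev9.length = true := by decide +kernel

end

end CfsgLib.Spor.Fi23Derived
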