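/-
The scans over all points.
-/
import Cfsg.Agent.Lib.Spor.Fi23Derived.Checks

set_option autoImplicit false
set_option maxRecDepth 100000

namespace CfsgLib.Spor.Fi23Derived

open CfsgLib.Spor.TC CfsgLib.Spor.Fi23 CfsgLib.Spor.Fi23Out

noncomputable section

theorem cover_0 : allFromS coverAt 0 4000 = true := by decide +kernel

theorem cover_4000 : allFromS coverAt 4000 4000 = true := by decide +kernel

theorem cover_8000 : allFromS coverAt 8000 4000 = true := by decide +kernel

theorem cover_12000 : allFromS coverAt 12000 4000 = true := by decide +kernel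

theorem cover_16000 : allFromS coverAt 16000 4000 = true := by decide +kernel

theorem cover_20000 : allFromS coverAt 20000 4000 = true := by decide +kernel

theorem cover_24000 : allFromS coverAt 24000 4000 = true := by decide +kernel

theorem cover_28000 : allFromS coverAt 28000 3671 = true := by decide +kernel

theorem cover_all (c : ℕ) (hc : c < 31671) : coverAt c = true := by
  rcases (show c < 4000 ∨ (4000 ≤ c ∧ c < 8000) ∨ (8000 ≤ c ∧ c < 12000) ∨ (12000 ≤ c ∧ c < 16000) ∨ (16000 ≤ c ∧ c < 20000) ∨ (20000 ≤ c ∧ c < 24000) ∨ (24000 ≤ c ∧ c < 28000) ∨ 28000 ≤ c by omega) with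
    h | h | h | h | h | h | h | h
  · exact allFrom_spec (allFromS_eq _ _ _ ▸ cover_0) c (by omega) (by omega)
  · exact allFrom_spec (allFromS_eq _ _ _ ▸ cover_4000) c (by omega) (by omega)
  · exact allFrom_spec (allFromS_eq _ _ _ ▸ cover_8000) c (by omega) (by omega)
  · exact allFrom_spec (allFromS_eq _ _ _ ▸ cover_12000) c (by omega) (by omega)
  · exact allFrom_spec (allFromS_eq _ _ _ ▸ cover_16000) c (by omega) (by omega)
  · exact allFrom_spec (allFromS_eq _ _ _ ▸ cover_20000) c (by omega) (by omega)
  · exact allFrom_spec (allFromS_eq _ _ _ ▸ cover_24000) c (by omega) (by omega)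
  · exact allFrom_spec (allFromS_eq _ _ _ ▸ cover_28000) c (by omega) (by omega)

theorem tell_0 : allFromS tellAt 0 4000 = true := by decide +kernel

theorem tell_4000 : allFromS tellAt 4000 4000 = true := by decide +kernel

theorem tell_8000 : allFromS tellAt 8000 4000 = true := by decide +kernel

theorem tell_12000 : allFromS tellAt 12000 4000 = true := by decide +kernel

theorem tell_16000 : allFromS tellAt 16000 4000 = true := by decide +kernel

theorem tell_20000 : allFromS tellAt 20000 4000 = true := by decide +kernel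

theorem tell_24000 : allFromS tellAt 24000 4000 = true := by decide +kernel

theorem tell_28000 : allFromS tellAt 28000 3671 = true := by decide +kernel

theorem tell_all (c : ℕ) (hc : c < 31671) : tellAt c = true := by
  rcases (show c < 4000 ∨ (4000 ≤ c ∧ c < 8000) ∨ (8000 ≤ c ∧ c < 12000) ∨ (12000 ≤ c ∧ c < 16000) ∨ (16000 ≤ c ∧ c < 20000) ∨ (20000 ≤ c ∧ c < 24000) ∨ (24000 ≤ c ∧ c < 28000) ∨ 28000 ≤ c by omega) with
    h | h | h | h | h | h | h | h
  · exact allFrom_spec (allFromS_eq _ _ _ ▸ tell_0) c (by omega) (by omega)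
  · exact allFrom_spec (allFromS_eq _ _ _ ▸ tell_4000) c (by omega) (by omega)
  · exact allFrom_spec (allFromS_eq _ _ _ ▸ tell_8000) c (by omega) (by omega)
  · exact allFrom_spec (allFromS_eq _ _ _ ▸ tell_12000) c (by omega) (by omega)
  · exact allFrom_spec (allFromS_eq _ _ _ ▸ tell_16000) c (by omega) (by omega)
  · exact allFrom_spec (allFromS_eq _ _ _ ▸ tell_20000) c (by omega) (by omega)
  · exact allFrom_spec (allFromS_eq _ _ _ ▸ tell_24000) c (by omega) (by omega)
  · exact allFrom_spec (allFromS_eq _ _ _ ▸ tell_28000) c (by omega) (by omega)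

end

end CfsgLib.Spor.Fi23Derived
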