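/-
The normalizer of a 3-central subgroup of the presented Fischer group on ten generators is maximal and solvable of
derived length at least ten.
-/
import Cfsg.Agent.Lib.Spor.Fi23Three.CentralStruct
import Cfsg.Agent.Lib.Spor.Fi23Derived.Levels
import Cfsg.Agent.Lib.Spor.Fi23Derived.Scans
import Cfsg.Agent.S0144
import Mathlib.GroupTheory.Solvable

set_option autoImplicit false
set_option maxRecDepth 100000

namespace CfsgLib.Spor.Fi23Derived

open CfsgLib.Spor.TC CfsgLib.Spor.Fi23 CfsgLib.Spor.Fi23Out MulAction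
open scoped commutatorElement

noncomputable section

attribute [local instance] actionF

local notation "AF" => CfsgLib.Spor.Fi23.ActF.act
local notation "rW'" => CfsgLib.Spor.Fi23Three.Central.rW
local notation "rX" => CfsgLib.Spor.Fi23Three.Central.rE

/-- The normalizer. -/
def norR : Subgroup Gp := Subgroup.normalizer (Subgroup.zpowers rX : Set Gp)

theorem el_eqS {a b : List ℕ} (h : eqS a b = true) : el a = el b :=
  Fi23Three.el_of_eqW (by simpa only [eqS, Fi23Three.eqW, Act.wactS_eq] using h)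

theorem r_below : ∀ x ∈ rW', x < ActF.act.K := Fi23Three.lt_of_below (by decide +kernel)

theorem fix_iff (c : Pt) : fixS rW' c = true ↔ rX • c = c := by
  rw [fixS, Act.wactS_eq]
  constructor
  · exact fun h => Fin.ext ((el_smul r_below c).trans (Nat.eq_of_beq_eq_true h))
  · intro h
    have := (el_smul r_below c).symm.trans (congrArg Fin.val h)
    rw [this]; exact Nat.beq_refl _

theorem r_cube : rX ^ 3 = 1 := by
  have h := Fi23Three.el_of_eqW (Fi23Three.rep_cube 2 (by norm_num)).1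
  rw [Fi23Three.el_append, Fi23Three.el_append, Fi23Three.el_nil] at h
  rw [pow_succ, pow_two]
  exact h

theorem r_ne : rX ≠ 1 := Fi23Three.el_ne_one (Fi23Three.rep_cube 2 (by norm_num)).2

theorem mem_r {x : Gp} (hx : x ∈ Subgroup.zpowers rX) : x = 1 ∨ x = rX ∨ x = rX * rX := by
  obtain ⟨k, rfl⟩ := Subgroup.mem_zpowers_iff.1 hx
  have hx' : rX ^ (3 : ℤ) = 1 := by exact_mod_cast r_cube
  rw [zpow_eq_zpow_emod k hx']
  rcases (show k % 3 = 0 ∨ k % 3 = 1 ∨ k % 3 = 2 by omega) with e | e | e <;> rw [e]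
  · exact Or.inl (zpow_zero _)
  · exact Or.inr (Or.inl (zpow_one _))
  · exact Or.inr (Or.inr (zpow_two _))

theorem conj_of_mem {g : Gp} (hg : g ∈ norR) : g * rX * g⁻¹ = rX ∨ g * rX * g⁻¹ = rX * rX := by
  rcases mem_r ((Subgroup.mem_normalizer_iff.1 hg rX).1 (Subgroup.mem_zpowers _)) with e | e | e
  · exact absurd (conj_eq_one_iff.1 e) r_ne
  · exact Or.inl e
  · exact Or.inr e

theorem mem_of_conj {g : Gp} (hg : g * rX * g⁻¹ = rX ∨ g * rX * g⁻¹ = rX * rX) : g ∈ norR := by
  have hle : (Subgroup.zpowers rX).map (MulAut.conj g).toMonoidHom ≤ Subgroup.zpowers rX := by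
    rw [MonoidHom.map_zpowers, Subgroup.zpowers_le]
    show g * rX * g⁻¹ ∈ _
    rcases hg with e | e <;> rw [e]
    exacts [Subgroup.mem_zpowers _, mul_mem (Subgroup.mem_zpowers _) (Subgroup.mem_zpowers _)]
  have : Finite Gp := Fi23Three.finite_gp
  have he := Subgroup.eq_of_le_of_card_ge hle
    (le_of_eq (Subgroup.card_map_of_injective (MulAut.conj g).injective).symm)
  refine Subgroup.mem_normalizer_iff.2 fun y => ⟨fun hy => hle ⟨y, hy, rfl⟩, fun hy => ?_⟩
  change g * y * g⁻¹ ∈ Subgroup.zpowers rX at hy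
  rw [← he] at hy
  obtain ⟨z, hz, e⟩ := hy
  rwa [← (MulAut.conj g).injective e]

theorem mem_of_commute {g : Gp} (hg : Commute g rX) : g ∈ norR :=
  mem_of_conj (Or.inl (mul_inv_eq_iff_eq_mul.2 hg.eq))

theorem route_commute : ∀ {l : List ℕ}, (l.all fun i => Nat.blt i cgens.length) = true →
    (∀ x ∈ routeW l, x < ActF.act.K) ∧ Commute (el (routeW l)) rX
  | [], _ => ⟨fun x hx => absurd hx (by simp [routeW]),
      by rw [routeW, List.flatMap_nil, Fi23Three.el_nil]; exact Commute.one_left _⟩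
  | i :: l, h => by
    rw [List.all_cons, Bool.and_eq_true] at h
    have hi : i < cgens.length := Nat.le_of_ble_eq_true h.1
    obtain ⟨hb, hc⟩ := route_commute h.2
    have hok := cgens_ok
    simp only [cgensOK, List.all_eq_true] at hok
    have hm := hok _ (List.getElem_mem hi)
    have hbw : Fi23Three.below cgens[i] = true := by
      have h' := hm
      simp only [eqS, Fi23Three.below, List.all_append, Bool.and_eq_true] at h'
      exact h'.1.1.1
    have hcw : Commute (el cgens[i]) rX := by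
      have := el_eqS hm
      rwa [Fi23Three.el_append, Fi23Three.el_append] at this
    rw [routeW, List.flatMap_cons, List.getD_eq_getElem _ _ hi]
    refine ⟨fun x hx => ?_, ?_⟩
    · rcases List.mem_append.1 hx with hx | hx
      exacts [Fi23Three.lt_of_below hbw x hx, hb x hx]
    · rw [Fi23Three.el_append]; exact hcw.mul_left hc

/-- A listed axis, as a point. -/
theorem axis_trp {i : ℕ} (hi : i < axes.length) :
    ∃ h : (axis i).1 < ActF.act.n, (∀ x ∈ tword (axis i).2, x < ActF.act.K) ∧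
      el (tword (axis i).2) = trp ⟨(axis i).1, h⟩ := by
  have hok := axes_ok
  simp only [axesOK, List.all_eq_true, Bool.and_eq_true] at hok
  obtain ⟨⟨hw, hlt⟩, he⟩ := hok (axis i) (by rw [axis, List.getD_eq_getElem _ _ hi]; exact List.getElem_mem hi)
  have hlt' : (axis i).1 < ActF.act.n := Nat.le_of_ble_eq_true hlt
  have hw' : ∀ x ∈ (axis i).2, x < 10 := fun x hx => Nat.le_of_ble_eq_true (hw x hx)
  refine ⟨hlt', fun x hx => ?_, ?_⟩
  · simp only [tword, List.mem_append, List.mem_singleton, List.mem_reverse] at hx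
    rcases hx with (hx | rfl) | hx
    exacts [below_K hw' x hx, by rw [Fi23Three.K_eq]; norm_num, below_K hw' x hx]
  · rw [tword, Fi23Three.el_append, Fi23Three.el_append, el_reverse hw']
    refine (show el (axis i).2 * el [10] * (el (axis i).2)⁻¹ = el (axis i).2 * zee * (el (axis i).2)⁻¹ by
      simp [el, ev, zee]).trans (trp_eq ?_).symm
    rw [Act.wactS_eq] at he
    exact Fin.ext ((el_smul (below_K hw') pt0).trans (Nat.eq_of_beq_eq_true he))

/-- The value of the word of an axis at a point. -/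
theorem axis_act {i b : ℕ} (hi : i < axes.length) (hb : b < ActF.act.n) :
    ∃ h : (axis i).1 < ActF.act.n,
      ((trp ⟨(axis i).1, h⟩ • (⟨b, hb⟩ : Pt) : Pt) : ℕ) = Act.wactS AF (tword (axis i).2) b := by
  obtain ⟨h, hl, he⟩ := axis_trp hi
  exact ⟨h, by rw [← he, el_smul hl, Act.wactS_eq]⟩

/-- A property closed under the transpositions reaches the generators. -/
theorem walk {Q : Pt → Prop} (hQ : ∀ a b, Q a → Q b → Q (trp a • b)) :
    ∀ {st : List (ℕ × ℕ × ℕ)} {known : List ℕ}, walkOK st known = true →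
      (∀ q ∈ known, ∃ h : q < ActF.act.n, Q ⟨q, h⟩) → ∀ x < 10, Q (gpt x)
  | [], known, h, hk => fun x hx => by
    simp only [walkOK, List.all_eq_true, List.any_eq_true] at h
    obtain ⟨q, hq, e⟩ := h (ptN x) (List.mem_map.2 ⟨x, List.mem_range.2 hx, rfl⟩)
    obtain ⟨h1, h2⟩ := hk q hq
    have : gpt x = ⟨q, h1⟩ := Fin.ext (Nat.eq_of_beq_eq_true e).symm
    rw [this]; exact h2
  | (i, b, v) :: st, known, h, hk => by
    simp only [walkOK, Bool.and_eq_true, List.any_eq_true] at h
    obtain ⟨⟨⟨⟨hi, q1, hq1, e1⟩, q2, hq2, e2⟩, hv⟩, ht⟩ := h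
    refine walk hQ ht fun q hq => ?_
    rcases List.mem_cons.1 hq with rfl | hq
    swap
    · exact hk q hq
    obtain ⟨hb, hQb⟩ := hk q2 hq2
    obtain ⟨ha', hQa⟩ := hk q1 hq1
    have eb : q2 = b := Nat.eq_of_beq_eq_true e2
    subst eb
    obtain ⟨ha, hact⟩ := axis_act (Nat.le_of_ble_eq_true hi) hb
    have ea : (⟨q1, ha'⟩ : Pt) = ⟨(axis i).1, ha⟩ := Fin.ext (Nat.eq_of_beq_eq_true e1)
    have ev' : ((trp ⟨(axis i).1, ha⟩ • (⟨q2, hb⟩ : Pt) : Pt) : ℕ) = q :=
      hact.trans (Nat.eq_of_beq_eq_true hv)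
    have hlt : q < ActF.act.n := ev' ▸ Fin.isLt _
    refine ⟨hlt, ?_⟩
    rw [show (⟨q, hlt⟩ : Pt) = trp ⟨(axis i).1, ha⟩ • (⟨q2, hb⟩ : Pt) from Fin.ext ev'.symm]
    exact hQ _ _ (ea ▸ hQa) hQb

theorem top_of_gens {M : Subgroup Gp} (h : ∀ x < 10, trp (gpt x) ∈ M) : M = ⊤ := by
  rw [eq_top_iff, ← closure_presGen ActF.act.k relsG, Subgroup.closure_le]
  rintro _ ⟨x, hx, rfl⟩
  rw [gens_eq x hx]
  exact h x hx

theorem root_top {M : Subgroup Gp} (hM : norR ≤ M) {r : ℕ} (hr : r < ActF.act.n) {seeds : List (ℕ × List ℕ)}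
    {steps : List (ℕ × ℕ × ℕ)} (hs : seedsOK r seeds = true) (hw : walkOK steps (seeds.map Prod.fst) = true)
    (hmem : trp ⟨r, hr⟩ ∈ M) : M = ⊤ := by
  refine top_of_gens (walk (Q := fun p => trp p ∈ M) (fun a b ha hb => ?_) hw fun q hq => ?_)
  · rw [← conj_trp]; exact mul_mem (mul_mem ha hb) (inv_mem ha)
  obtain ⟨⟨q, l⟩, hql, rfl⟩ := List.mem_map.1 hq
  simp only [seedsOK, List.all_eq_true, Bool.and_eq_true, Bool.or_eq_true] at hs
  obtain ⟨⟨hlt, hl⟩, hcase⟩ := hs (q, l) hql
  have hlt' : q < ActF.act.n := Nat.le_of_ble_eq_true hlt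
  refine ⟨hlt', ?_⟩
  rcases hcase with hc | hc
  · exact hM (mem_of_commute ((commute_trp_iff _ _).2 ((fix_iff ⟨q, hlt'⟩).1 hc)).symm)
  · obtain ⟨hb, hcm⟩ := route_commute (l := l) (List.all_eq_true.2 hl)
    rw [Act.wactS_eq] at hc
    have e : el (routeW l) • (⟨r, hr⟩ : Pt) = ⟨q, hlt'⟩ :=
      Fin.ext ((el_smul hb _).trans (Nat.eq_of_beq_eq_true hc))
    rw [← e, ← conj_trp]
    exact mul_mem (mul_mem (hM (mem_of_commute hcm)) hmem) (inv_mem (hM (mem_of_commute hcm)))

theorem cover (c : Pt) (hc : rX • c ≠ c) :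
    ∃ r : Pt, ((r : ℕ) = 3 ∨ (r : ℕ) = 11) ∧ ∃ g : Gp, Commute g rX ∧ g • r = c := by
  suffices H : ∀ d, ∀ c : Pt, depT.get 16 c = d → rX • c ≠ c →
      ∃ r : Pt, ((r : ℕ) = 3 ∨ (r : ℕ) = 11) ∧ ∃ g : Gp, Commute g rX ∧ g • r = c from H _ c rfl hc
  intro d
  induction d using Nat.strongRecOn with
  | _ d ih =>
    intro c hd hne
    have h := cover_all c c.2
    simp only [coverAt, Bool.or_eq_true, Bool.and_eq_true, Bool.not_eq_true'] at h
    rcases h with ((h | h) | h) | ⟨⟨⟨⟨⟨-, hp⟩, hdec⟩, hpn⟩, hg⟩, he⟩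
    · exact absurd ((fix_iff c).1 h) hne
    · exact ⟨c, Or.inl (Nat.eq_of_beq_eq_true h), 1, Commute.one_left _, one_smul _ _⟩
    · exact ⟨c, Or.inr (Nat.eq_of_beq_eq_true h), 1, Commute.one_left _, one_smul _ _⟩
    · have hp' : parT.get 16 c < ActF.act.n := Nat.le_of_ble_eq_true hp
      have hlt : depT.get 16 (parT.get 16 c) < d := hd ▸ Nat.le_of_ble_eq_true hdec
      obtain ⟨r, hr, g, hgc, hgr⟩ := ih _ hlt ⟨_, hp'⟩ rfl (fun e => by
        rw [(fix_iff ⟨_, hp'⟩).2 e] at hpn; cases hpn)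
      have hl : ([genT.get 16 c].all fun i => Nat.blt i cgens.length) = true := by simp [hg]
      obtain ⟨hb, hcm⟩ := route_commute hl
      rw [routeW, List.flatMap_cons, List.flatMap_nil, List.append_nil] at hb hcm
      rw [Act.wactS_eq] at he
      refine ⟨r, hr, el (cgens.getD (genT.get 16 c) []) * g, hcm.mul_left hgc, ?_⟩
      rw [mul_smul, hgr]
      exact Fin.ext ((el_smul hb _).trans (Nat.eq_of_beq_eq_true he))

/-- A root whose transposition does not normalize. -/
theorem root_not_mem {i : ℕ} (hi : i < axes.length) (hm : movesOK i = true) :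
    ∃ h : (axis i).1 < ActF.act.n, trp ⟨(axis i).1, h⟩ ∉ norR := by
  obtain ⟨h, hl, he⟩ := axis_trp hi
  refine ⟨h, fun hmem => ?_⟩
  have hsq : (trp ⟨(axis i).1, h⟩)⁻¹ = trp ⟨(axis i).1, h⟩ := by
    obtain ⟨u, hu⟩ := trans_pt ⟨(axis i).1, h⟩
    rw [trp_eq hu, mul_inv_rev, mul_inv_rev, inv_inv, inv_eq_of_mul_eq_one_right zee_sq, mul_assoc]
  simp only [movesOK, Bool.and_eq_true, List.any_eq_true, Bool.not_eq_true'] at hm
  have hu : ∀ x ∈ tword (axis i).2 ++ rW' ++ tword (axis i).2, x < ActF.act.K := fun x hx => by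
    simp only [List.mem_append] at hx
    rcases hx with (hx | hx) | hx
    exacts [hl x hx, r_below x hx, hl x hx]
  have hc := conj_of_mem hmem
  rw [hsq, ← he, ← Fi23Three.el_append, ← Fi23Three.el_append, ← Fi23Three.el_append] at hc
  rcases hc with e | e
  · obtain ⟨p, hp, hne⟩ := hm.1
    obtain ⟨x, -, rfl⟩ := List.mem_map.1 hp
    have := congrArg (fun g : Gp => ((g • gpt x : Pt) : ℕ)) e
    rw [Act.wactS_eq, Act.wactS_eq] at hne
    simp only [el_smul hu, el_smul r_below] at this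
    change ActF.act.wact _ (ptN x) = ActF.act.wact _ (ptN x) at this
    rw [this] at hne
    simp at hne
  · obtain ⟨p, hp, hne⟩ := hm.2
    obtain ⟨x, -, rfl⟩ := List.mem_map.1 hp
    have := congrArg (fun g : Gp => ((g • gpt x : Pt) : ℕ)) e
    have hrr : ∀ y ∈ rW' ++ rW', y < ActF.act.K := fun y hy => (List.mem_append.1 hy).elim (r_below y) (r_below y)
    rw [Act.wactS_eq, Act.wactS_eq] at hne
    simp only [el_smul hu, el_smul hrr] at this
    change ActF.act.wact _ (ptN x) = ActF.act.wact _ (ptN x) at this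
    rw [this] at hne
    simp at hne

/-- An element fixing all points fixed by the central element is one of its powers. -/
theorem fixer {k : Gp} (hk : ∀ p : Pt, rX • p = p → k • p = p) : k ∈ Subgroup.zpowers rX := by
  have h3 : 3 < ActF.act.n := by decide +kernel
  set b : Pt := ⟨3, h3⟩
  have hc := tell_all (k • b : Pt) (k • b : Pt).2
  have hall : (tellers.all fun i => fixS (tword (axis i).2) ((k • b : Pt) : ℕ)) = true := by
    rw [List.all_eq_true]
    intro i hi
    have ht := tellers_ok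
    simp only [List.all_eq_true, Bool.and_eq_true] at ht
    obtain ⟨hF, hb⟩ := ht i hi
    have hall' : (tellers.all fun i => Nat.blt i axes.length) = true := by decide +kernel
    have hil : i < axes.length := Nat.le_of_ble_eq_true (List.all_eq_true.1 hall' i hi)
    obtain ⟨h, hl, he⟩ := axis_trp hil
    have hcm : Commute k (trp ⟨(axis i).1, h⟩) :=
      (commute_trp_iff _ _).2 (hk _ ((fix_iff ⟨_, h⟩).1 hF))
    rw [fixS, Act.wactS_eq] at hb ⊢
    have hb' : el (tword (axis i).2) • b = b :=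
      Fin.ext ((el_smul hl b).trans (Nat.eq_of_beq_eq_true hb))
    have : el (tword (axis i).2) • (k • b) = k • b := by
      rw [he] at hb' ⊢
      rw [← mul_smul, ← hcm.eq, mul_smul, hb']
    have e := (el_smul hl (k • b)).symm.trans (congrArg Fin.val this)
    rw [e]; exact Nat.beq_refl _
  simp only [tellAt, hall, Bool.not_true, Bool.false_or, Bool.or_eq_true] at hc
  have hr := r_moves
  simp only [Bool.and_eq_true, Act.wactS_eq] at hr
  have h1 : ((rX • b : Pt) : ℕ) = 458 := (el_smul r_below b).trans (Nat.eq_of_beq_eq_true hr.1)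
  have h2 : (((rX * rX) • b : Pt) : ℕ) = 85 := by
    rw [mul_smul, el_smul r_below, h1]; exact Nat.eq_of_beq_eq_true hr.2
  obtain ⟨j, hj⟩ : ∃ j : ℕ, (rX ^ j) • b = k • b := by
    rcases hc with (e | e) | e
    · exact ⟨0, by rw [pow_zero, one_smul]; exact Fin.ext (Nat.eq_of_beq_eq_true e).symm⟩
    · exact ⟨2, by rw [pow_two]; exact Fin.ext (h2.trans (Nat.eq_of_beq_eq_true e).symm)⟩
    · exact ⟨1, by rw [pow_one]; exact Fin.ext (h1.trans (Nat.eq_of_beq_eq_true e).symm)⟩
  set g := (rX ^ j)⁻¹ * k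
  have hgb : g • b = b := by rw [mul_smul, ← hj, inv_smul_smul]
  have hgF : ∀ p : Pt, rX • p = p → g • p = p := fun p hp => by
    have hmem : rX ∈ MulAction.stabilizer Gp p := hp
    rw [mul_smul, hk p hp, inv_smul_eq_iff]
    exact ((MulAction.stabilizer Gp p).pow_mem hmem j).symm
  have hg1 : g = 1 := commute_gens (walk (Q := fun p => g • p = p) (fun a c ha hc => by
    rw [← mul_smul, ((commute_trp_iff g a).2 ha).eq, mul_smul, hc]) walkFix_ok fun q hq => by
      have hs := fixSeeds_ok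
      simp only [List.all_eq_true, Bool.and_eq_true, Bool.or_eq_true] at hs
      obtain ⟨hlt, hcase⟩ := hs q hq
      refine ⟨Nat.le_of_ble_eq_true hlt, ?_⟩
      rcases hcase with e | e
      · rw [show (⟨q, Nat.le_of_ble_eq_true hlt⟩ : Pt) = b from Fin.ext (Nat.eq_of_beq_eq_true e)]
        exact hgb
      · exact hgF _ ((fix_iff ⟨q, _⟩).1 e))
  rw [inv_mul_eq_one] at hg1
  rw [← hg1]
  exact Subgroup.npow_mem_zpowers rX j

theorem trp_not_mem {c : Pt} (hc : rX • c ≠ c) : trp c ∉ norR := by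
  intro hmem
  obtain ⟨r, hr, g, hg, rfl⟩ := cover c hc
  rw [← conj_trp] at hmem
  have hgN := mem_of_commute hg
  have hrN : trp r ∈ norR := by
    have := mul_mem (mul_mem (inv_mem hgN) hmem) hgN
    rwa [show g⁻¹ * (g * trp r * g⁻¹) * g = trp r by group] at this
  rcases hr with e | e
  · obtain ⟨h, hn⟩ := root_not_mem axis_three.1 moves_three
    exact hn (by rwa [show (⟨_, h⟩ : Pt) = r from Fin.ext (axis_three.2.trans e.symm)])
  · obtain ⟨h, hn⟩ := root_not_mem axis_eleven.1 moves_eleven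
    exact hn (by rwa [show (⟨_, h⟩ : Pt) = r from Fin.ext (axis_eleven.2.trans e.symm)])

theorem top_of_trp {M : Subgroup Gp} (hM : norR ≤ M) {c : Pt} (hc : rX • c ≠ c) (hm : trp c ∈ M) : M = ⊤ := by
  obtain ⟨r, hr, g, hg, rfl⟩ := cover c hc
  rw [← conj_trp] at hm
  have hgM := hM (mem_of_commute hg)
  have hrM : trp r ∈ M := by
    have := mul_mem (mul_mem (inv_mem hgM) hm) hgM
    rwa [show g⁻¹ * (g * trp r * g⁻¹) * g = trp r by group] at this
  obtain ⟨r, hlt⟩ := r
  rcases hr with rfl | rfl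
  exacts [root_top hM hlt seeds0_ok walk0_ok hrM, root_top hM hlt seeds1_ok walk1_ok hrM]

theorem isCoatom_norR : IsCoatom norR := by
  constructor
  · intro htop
    have h3 : 3 < ActF.act.n := by decide +kernel
    obtain ⟨h, hn⟩ := root_not_mem axis_three.1 moves_three
    exact hn (htop ▸ Subgroup.mem_top _)
  intro M hM
  by_cases hex : ∃ c : Pt, rX • c ≠ c ∧ trp c ∈ M
  · obtain ⟨c, hc, hm⟩ := hex
    exact top_of_trp hM.le hc hm
  exfalso
  push_neg at hex
  refine hM.2 fun g hg => ?_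
  have hfix : ∀ p : Pt, rX • p = p → (g * rX * g⁻¹) • p = p := by
    intro p hp
    have hpM : trp p ∈ M := hM.le (mem_of_commute ((commute_trp_iff _ _).2 hp).symm)
    have hq : trp (g⁻¹ • p) ∈ M := by
      rw [← conj_trp]; exact mul_mem (mul_mem (inv_mem hg) hpM) (inv_mem (inv_mem hg))
    have hq' : rX • (g⁻¹ • p) = g⁻¹ • p := by
      by_contra hne; exact hex _ hne hq
    rw [mul_smul, mul_smul, hq', smul_inv_smul]
  rcases mem_r (fixer hfix) with e | e | e
  · exact absurd (conj_eq_one_iff.1 e) r_ne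
  · exact mem_of_conj (Or.inl e)
  · exact mem_of_conj (Or.inr e)

theorem isSolvable_norR : Group.IsSolvable ↥norR := by
  set C := Subgroup.centralizer ({rX} : Set Gp)
  have : Finite Gp := Fi23Three.finite_gp
  have hC : Group.IsSolvable ↥C := Cfsg.Agent.S0144.result 2 3 10 13 Nat.prime_two Nat.prime_three
    (Fi23Three.Central.cent_r.1.trans (by norm_num))
  let f : ↥(C.subgroupOf norR) →* ↥C :=
    { toFun := fun x => ⟨x.1.1, x.2⟩, map_one' := rfl, map_mul' := fun _ _ => rfl }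
  have hf : Function.Injective f := fun a b h => Subtype.ext (Subtype.ext (congrArg Subtype.val h : _))
  have hCK : Group.IsSolvable ↥(C.subgroupOf norR) := Group.isSolvable_of_isSolvable_injective hf
  have hcomm : commutator ↥norR ≤ C.subgroupOf norR := by
    rw [commutator_def, Subgroup.commutator_le]
    intro a _ b _
    show (⁅a, b⁆ : ↥norR).1 ∈ C
    rw [Subgroup.mem_centralizer_singleton_iff, ← mul_inv_eq_iff_eq_mul]
    obtain ⟨a, ha'⟩ := a
    obtain ⟨b, hb'⟩ := b
    have ha := conj_of_mem ha'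
    have hb := conj_of_mem hb'
    show a * b * a⁻¹ * b⁻¹ * rX * (a * b * a⁻¹ * b⁻¹)⁻¹ = rX
    obtain ⟨i, hi⟩ : ∃ i : ℕ, a * rX * a⁻¹ = rX ^ i :=
      ha.elim (fun e => ⟨1, by rw [e, pow_one]⟩) (fun e => ⟨2, by rw [e, pow_two]⟩)
    obtain ⟨j, hj⟩ : ∃ j : ℕ, b * rX * b⁻¹ = rX ^ j :=
      hb.elim (fun e => ⟨1, by rw [e, pow_one]⟩) (fun e => ⟨2, by rw [e, pow_two]⟩)
    have e1 : a * b * rX * b⁻¹ * a⁻¹ = b * a * rX * a⁻¹ * b⁻¹ := by
      calc a * b * rX * b⁻¹ * a⁻¹ = a * (b * rX * b⁻¹) * a⁻¹ := by group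
        _ = a * rX ^ j * a⁻¹ := by rw [hj]
        _ = (rX ^ i) ^ j := by rw [← conj_pow, hi]
        _ = (rX ^ j) ^ i := by rw [← pow_mul, ← pow_mul, mul_comm]
        _ = b * rX ^ i * b⁻¹ := by rw [← hj, conj_pow]
        _ = b * (a * rX * a⁻¹) * b⁻¹ := by rw [hi]
        _ = _ := by group
    have hn : (b * a)⁻¹ ∈ norR := inv_mem (mul_mem (mem_of_conj hb) (mem_of_conj ha))
    obtain ⟨m, hm⟩ : ∃ m : ℕ, (b * a)⁻¹ * rX * (b * a) = rX ^ m := by
      rcases mem_r ((Subgroup.mem_normalizer_iff.1 hn rX).1 (Subgroup.mem_zpowers _)) with e | e | e <;>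
        rw [inv_inv] at e
      exacts [⟨0, by rw [e, pow_zero]⟩, ⟨1, by rw [e, pow_one]⟩, ⟨2, by rw [e, pow_two]⟩]
    calc a * b * a⁻¹ * b⁻¹ * rX * (a * b * a⁻¹ * b⁻¹)⁻¹
        = (a * b) * ((b * a)⁻¹ * rX * (b * a)) * (a * b)⁻¹ := by group
      _ = ((a * b) * rX * (a * b)⁻¹) ^ m := by rw [hm, conj_pow]
      _ = ((b * a) * rX * (b * a)⁻¹) ^ m := by
          rw [show a * b * rX * (a * b)⁻¹ = a * b * rX * b⁻¹ * a⁻¹ by group, e1]
          group
      _ = (b * a) * rX ^ m * (b * a)⁻¹ := conj_pow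
      _ = rX := by rw [← hm]; group
  have : (C.subgroupOf norR).Normal := Subgroup.Normal.of_commutator_le (G := ↥norR) hcomm
  have hq : Group.IsSolvable (↥norR ⧸ C.subgroupOf norR) := Group.isSolvable_of_comm fun x y => by
    induction x using QuotientGroup.induction_on
    induction y using QuotientGroup.induction_on
    rename_i x y
    show ((x * y : ↥norR) : ↥norR ⧸ C.subgroupOf norR) = ((y * x : ↥norR) : ↥norR ⧸ C.subgroupOf norR)
    rw [QuotientGroup.eq]
    have := hcomm (commutator_def (↥norR) ▸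
      Subgroup.commutator_mem_commutator (Subgroup.mem_top y⁻¹) (Subgroup.mem_top x⁻¹))
    simpa [commutatorElement_def, mul_assoc] using this
  exact Group.isSolvable_of_ker_le_range (C.subgroupOf norR).subtype (QuotientGroup.mk' (C.subgroupOf norR))
    (by rw [QuotientGroup.ker_mk', Subgroup.range_subtype])

/-- The words of a level lie in that derived term. -/
def InLevel (k : ℕ) (l : List (List ℕ)) : Prop :=
  ∀ i < l.length, ∃ h : el (l.getD i []) ∈ norR, (⟨_, h⟩ : ↥norR) ∈ derivedSeries ↥norR k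

theorem prod_mem {k : ℕ} {l : List (List ℕ)} (hl : InLevel k l) :
    ∀ {idx : List ℕ}, (∀ i ∈ idx, i < l.length) →
      ∃ h : el (prodW l idx) ∈ norR, (⟨_, h⟩ : ↥norR) ∈ derivedSeries ↥norR k
  | [], _ => by
    have e : el (prodW l []) = 1 := by rw [prodW, List.flatMap_nil, Fi23Three.el_nil]
    exact ⟨e ▸ one_mem _, by simp only [e]; exact one_mem _⟩
  | i :: idx, h => by
    obtain ⟨h1, m1⟩ := hl i (h i (List.mem_cons_self))
    obtain ⟨h2, m2⟩ := prod_mem hl (idx := idx) fun j hj => h j (List.mem_cons_of_mem _ hj)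
    have e : el (prodW l (i :: idx)) = el (l.getD i []) * el (prodW l idx) := by
      rw [prodW, List.flatMap_cons, Fi23Three.el_append]; rfl
    exact ⟨e ▸ mul_mem h1 h2, by simp only [e]; exact mul_mem m1 m2⟩

theorem level_step {k : ℕ} {prev cur : List (List ℕ)} {src : List (List ℕ × List ℕ)}
    (hp : InLevel k prev) (h : commAt prev cur src 0 cur.length = true) : InLevel (k + 1) cur := by
  intro i hi
  simp only [commAt, Bool.and_eq_true, List.all_eq_true, List.mem_range, Nat.zero_add] at h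
  obtain ⟨⟨ha, hb⟩, he⟩ := h.2 i hi
  obtain ⟨h1, m1⟩ := prod_mem hp (idx := _) fun j hj => Nat.le_of_ble_eq_true (ha j hj)
  obtain ⟨h2, m2⟩ := prod_mem hp (idx := _) fun j hj => Nat.le_of_ble_eq_true (hb j hj)
  have e := el_eqS he
  rw [Fi23Three.el_append, Fi23Three.el_append, Fi23Three.el_append] at e
  have e' : el (cur.getD i []) =
      ⁅el (prodW prev (src.getD i ([], [])).1), el (prodW prev (src.getD i ([], [])).2)⁆ := by
    rw [commutatorElement_def, ← e]; group
  have hm := Subgroup.commutator_mem_commutator m1 m2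
  have hmem : el (cur.getD i []) ∈ norR := e' ▸ (⁅(⟨_, h1⟩ : ↥norR), ⟨_, h2⟩⁆ : ↥norR).2
  refine ⟨hmem, ?_⟩
  rw [derivedSeries_succ,
    show (⟨el (cur.getD i []), hmem⟩ : ↥norR) = ⁅(⟨_, h1⟩ : ↥norR), (⟨_, h2⟩ : ↥norR)⁆ from Subtype.ext e']
  exact hm

theorem inLevel_zero : InLevel 0 lev0 := by
  intro i hi
  have h := lev0_ok
  simp only [lev0OK, List.all_eq_true, Bool.or_eq_true] at h
  have hm : el (lev0.getD i []) ∈ norR := by
    rw [List.getD_eq_getElem _ _ hi]
    refine mem_of_conj ?_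
    rcases h _ (List.getElem_mem hi) with e | e
    · exact Or.inl (mul_inv_eq_iff_eq_mul.2 (by simpa [Fi23Three.el_append] using el_eqS e))
    · exact Or.inr (mul_inv_eq_iff_eq_mul.2 (by simpa [Fi23Three.el_append, mul_assoc] using el_eqS e))
  exact ⟨hm, Subgroup.mem_top _⟩

theorem derived_nine_ne : derivedSeries ↥norR 9 ≠ ⊥ := by
  intro hb
  have h := level_step (level_step (level_step (level_step (level_step (level_step (level_step (level_step
    (level_step inLevel_zero lev1_ok) lev2_ok) lev3_ok) lev4_ok) lev5_ok) lev6_ok) lev7_ok) lev8_ok) lev9_ok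
  obtain ⟨hm, hd⟩ := h 0 (by decide +kernel)
  rw [hb, Subgroup.mem_bot] at hd
  have hne := lev9_ne
  rw [Bool.and_eq_true] at hne
  exact Fi23Three.el_ne_one hne.2 (congrArg Subtype.val hd)

theorem derived_ne : derivedSeries ↥norR 10 ≠ derivedSeries ↥norR 9 := by
  intro he
  have hall : ∀ m, derivedSeries ↥norR (9 + m) = derivedSeries ↥norR 9 := by
    intro m
    induction m with
    | zero => rfl
    | succ m ih => rw [← Nat.add_assoc, derivedSeries_succ, ih, ← derivedSeries_succ, he]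
  obtain ⟨n, hn⟩ := (Group.isSolvable_def _).1 isSolvable_norR
  refine derived_nine_ne ?_
  rw [← hall n, eq_bot_iff, ← hn]
  exact derivedSeries_antitone _ (Nat.le_add_left n 9)

end

end CfsgLib.Spor.Fi23Derived
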